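import Groth.Agent.IsoNatBG.BaseChange
import Groth.Prelude.Def_StGerb2

/-!
# Abelian automorphism sheaves through isomorphisms of presheaves of classes
-/

set_option autoImplicit false
set_option linter.all false
set_option backward.isDefEq.respectTransparency false
set_option backward.isDefEq.respectTransparency.types false

universe u

open CategoryTheory CategoryTheory.Limits AlgebraicGeometry AlgSp FibCat FibLib AlgStLib IsoNat IsoNatLib IsoNatUnr
open IsoNatClean IsoNatAut Gerb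
open CategoryTheory.Functor (Fiber IsStronglyCartesian)

noncomputable section

namespace IsoNatBG

variable {S : Scheme.{u}} {𝒳 𝒴 : AlgSt.Cat S} [IsFibGrpd 𝒳.p] [IsFibGrpd 𝒴.p] {T : Over S} {φ : FIso 𝒳 𝒴}

/-- The transport of commutative automorphism groups, with its defining relation. -/
theorem exists_mulEquiv {P : Pt 𝒳 T} {Q : Pt 𝒴 T} (hPQ : φ.toEquiv T (objCls P.Y) = objCls Q.Y) (hc : P.IsComm) :
    ∃ e : G P.Y ≃* G Q.Y, ∀ a, Pt.Rel φ P Q ![a, 1] ![e a, 1] := by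
  choose ψ hψ huniq using fun a => Pt.existsUnique_pair hPQ hc a
  have hdiv : ∀ a b, ψ (a * b⁻¹) = ψ a * (ψ b)⁻¹ := by
    intro a b
    obtain ⟨g', hg'⟩ := Pt.exists_rel hPQ ![a, b, 1]
    have r02 := hg'.pull Pt.i02
    have r12 := hg'.pull Pt.i12
    have r01 := hg'.pull Pt.i01
    rw [Pt.comp02, Pt.comp02] at r02
    rw [Pt.comp12, Pt.comp12] at r12
    rw [Pt.comp01, Pt.comp01] at r01
    have ha : g' 0 * (g' 2)⁻¹ = ψ a := huniq a _ (r02.trans (Pt.c_pair Q _ _).symm)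
    have hb : g' 1 * (g' 2)⁻¹ = ψ b := huniq b _ (r12.trans (Pt.c_pair Q _ _).symm)
    have hab : g' 0 * (g' 1)⁻¹ = ψ (a * b⁻¹) := by
      refine huniq _ _ ?_
      change φ.toEquiv _ _ = _
      rw [Pt.c_pair, Pt.c_pair]
      exact r01
    rw [← ha, ← hb, ← hab]
    group
  let f : G P.Y →* G Q.Y := MonoidHom.ofMapMulInv ψ hdiv
  refine ⟨MulEquiv.ofBijective f ⟨fun a b e => ?_, fun b => ?_⟩, hψ⟩
  · change ψ a = ψ b at e
    exact Pt.c_pair_inj hc (((hψ a).inj (hψ b)).2 (by rw [e]))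
  · obtain ⟨g, hg⟩ := Pt.exists_rel' hPQ ![b, 1]
    have e : g = ![g 0, g 1] := by funext i; fin_cases i <;> rfl
    rw [e] at hg
    refine ⟨g 0 * (g 1)⁻¹, (huniq _ _ ?_).symm⟩
    change φ.toEquiv _ _ = _
    rw [Pt.c_pair]
    exact hg

section Down

variable {U : Over S} (Y : overCat U ⥤ᵇ 𝒳) (R : Over U)

/-- The identification of the value at a point. -/
def jR : (Over.map R.hom).obj (o1 R.left) ⟶ R := Over.homMk (𝟙 R.left)

/-- Its inverse. -/
def jR' : R ⟶ (Over.map R.hom).obj (o1 R.left) :=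
  Over.homMk (𝟙 R.left) ((Category.id_comp _).trans (Category.id_comp _))

lemma jR_jR' : jR R ≫ jR' R = 𝟙 _ := Over.OverMorphism.ext (Category.id_comp _)

lemma jR'_jR : jR' R ≫ jR R = 𝟙 _ := Over.OverMorphism.ext (Category.id_comp _)

lemma lift_val {a : 𝒳.obj} {V : Over S} (e : 𝒳.p.obj a = V) {f : a ⟶ a} (h : 𝒳.p.IsHomLift (𝟙 (𝒳.p.obj a)) f) :
    𝒳.p.IsHomLift (𝟙 V) f := by subst e; exact h

lemma lift_unval {a : 𝒳.obj} {V : Over S} (e : 𝒳.p.obj a = V) {f : a ⟶ a} (h : 𝒳.p.IsHomLift (𝟙 V) f) :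
    𝒳.p.IsHomLift (𝟙 (𝒳.p.obj a)) f := by subst e; exact h

lemma bf_ext {𝒜 ℬ : BasedCategory (Over S)} {F F' : 𝒜 ⥤ᵇ ℬ} (h : F.toFunctor = F'.toFunctor) : F = F' := by
  obtain ⟨F, w⟩ := F
  obtain ⟨F', w'⟩ := F'
  subst h
  rfl

/-- An automorphism of the value at a point, over the point. -/
def down : AutO (Y.obj R) ≃* G (gY R.hom Y) where
  toFun f := ⟨pbv Y (jR R) f.inv.1 (lift_val (Y.w_obj R) f.inv.2),
    (pbv_lift Y (jR R) f.inv.1 (lift_val (Y.w_obj R) f.inv.2) :)⟩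
  invFun g :=
    haveI h : 𝒳.p.IsHomLift (𝟙 R.left) (pbv Y (jR' R) g.1 g.2) := pbv_lift _ _ _ _
    haveI : IsIso (pbv Y (jR' R) g.1 g.2) := isIso_of_isHomLift 𝒳.p (𝟙 R.left) _
    (fiberIso 𝒳.p (a := Gerb.fib (Y.obj R)) (b := Gerb.fib (Y.obj R)) (asIso (pbv Y (jR' R) g.1 g.2))
      (lift_unval (Y.w_obj R) h)).symm
  left_inv f := Iso.ext_inv (Fiber.hom_ext (by
    show pbv Y (jR' R) (pbv Y (jR R) f.inv.1 (lift_val (Y.w_obj R) f.inv.2))
      (pbv_lift Y (jR R) f.inv.1 (lift_val (Y.w_obj R) f.inv.2)) = f.inv.1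
    rw [pbv_pbv Y (jR' R) (jR R), pbv_congr Y (jR'_jR R), pbv_idmap]))
  right_inv g := Subtype.ext (by
    show pbv Y (jR R) (pbv Y (jR' R) g.1 g.2) (pbv_lift Y (jR' R) g.1 g.2) = g.1
    rw [pbv_pbv Y (jR R) (jR' R), pbv_congr Y (jR_jR' R), pbv_idmap])
  map_mul' f f' := Subtype.ext (pbv_mul Y (jR R) f.inv.1 f'.inv.1 (lift_val (Y.w_obj R) f.inv.2)
    (lift_val (Y.w_obj R) f'.inv.2))

lemma down_fac (f : AutO (Y.obj R)) : (down Y R f).1 ≫ Y.map (jR R) = Y.map (jR R) ≫ f.inv.1 :=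
  (pbv_fac Y (jR R) f.inv.1 (lift_val (Y.w_obj R) f.inv.2) :)

lemma gY_gY {R' : Over U} (h : R' ⟶ R) : gY R'.hom Y = gY h.left (gY R.hom Y) := by
  have e : AlgSt.overMap R'.hom = BasedFunctor.comp (AlgSt.overMap h.left) (AlgSt.overMap R.hom) := by
    rw [← Over.w h]
    refine bf_ext (CategoryTheory.Functor.ext (fun o => ?_) (fun o o' k => ?_))
    · exact congrArg Over.mk (Category.assoc _ _ _).symm
    · apply Over.OverMorphism.ext
      simp [BasedFunctor.comp, AlgSt.overMap]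
  rw [gY, e]
  rfl

lemma val_transport {Y₁ Y₂ : overCat R.left ⥤ᵇ 𝒳} (e : Y₁ = Y₂) (a : G Y₂) :
    (e ▸ a : G Y₁).1 = eqToHom (by rw [e]) ≫ a.1 ≫ eqToHom (by rw [e]) := by
  subst e
  simp

end Down

section Family

variable {U : Over S} (Y : overCat U ⥤ᵇ 𝒳) (hst : Stk.IsStack (AlgSp.J S) 𝒳)
  (hd : AlgSt.RepByAlgSpWith (AlgSp.IsSeparatedMor ⊓ AlgSp.IsQuasiCompactMor) (diag (toSelf 𝒳)))

include hd in
lemma exists_cl {V : Over S} (Y : overCat V ⥤ᵇ 𝒳) : ∃ (H : Sp S) (aH : H ⟶ (yon S).obj V),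
    AlgSp.IsSeparatedMor aH ∧ Nonempty (IsoNatLib.Classifier (inertiaToBase (toSelf 𝒳)) (yV Y) aH) := by
  haveI : IsFibGrpd (inertia (toSelf 𝒳)).p :=
    FibLib.isFibGrpd_inertia (FibLib.preservesStronglyCartesian_of_isFibGrpd _)
  obtain ⟨H, aH, -, hsep, -, hCl⟩ := exists_classifier (separated_inertia hd) (yV Y)
  exact ⟨H, aH, hsep, hCl⟩

/-- A point with its classifier. -/
def ptOf {V : Over S} (Y : overCat V ⥤ᵇ 𝒳) : Pt 𝒳 V :=
  { Y := Y
    hst := hst
    H := (exists_cl hd Y).choose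
    aH := (exists_cl hd Y).choose_spec.choose
    Cl := (exists_cl hd Y).choose_spec.choose_spec.2.some
    hsep := (exists_cl hd Y).choose_spec.choose_spec.1 }

lemma res_down {R' R : Over U} (h : R' ⟶ R) (f : AutO (Y.obj R)) (f' : AutO (Y.obj R'))
    (hf : f'.inv.1 ≫ Y.map h = Y.map h ≫ f.inv.1) :
    Res.res h.left (ptOf hst hd (gY R.hom Y)) (ptOf hst hd (gY R'.hom Y)) (gY_gY Y R h) (down Y R f) =
      down Y R' f' := by
  refine Subtype.ext ?_
  let o₂ : Over U := (Over.map R.hom).obj ((Over.map h.left).obj (o1 R'.left))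
  have eo : (Over.map R'.hom).obj (o1 R'.left) = o₂ := by
    show Over.mk _ = Over.mk _
    rw [← Over.w h]
    exact congrArg Over.mk (Category.assoc _ _ _).symm
  let k : o₂ ⟶ (Over.map R.hom).obj (o1 R.left) := (Over.map R.hom).map (toId ((Over.map h.left).obj (o1 R'.left)))
  haveI : 𝒳.p.IsHomLift (jR R' ≫ h).left (Y.map (jR R' ≫ h)) := lift_map Y _
  refine ext_map Y (jR R' ≫ h) (Res.res h.left (ptOf hst hd (gY R.hom Y)) (ptOf hst hd (gY R'.hom Y))
    (gY_gY Y R h) (down Y R f)).2 (down Y R' f').2 ?_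
  have ek : eqToHom eo ≫ k ≫ jR R = jR R' ≫ h := by
    apply Over.OverMorphism.ext
    simp [k, jR, Over.eqToHom_left]
  have er : (Res.res h.left (ptOf hst hd (gY R.hom Y)) (ptOf hst hd (gY R'.hom Y)) (gY_gY Y R h) (down Y R f)).1 =
      Y.map (eqToHom eo) ≫ (gRes h.left (gY R.hom Y) (down Y R f)).1 ≫ Y.map (eqToHom eo.symm) := by
    refine (val_transport R' (gY_gY Y R h) _).trans ?_
    rw [eqToHom_map, eqToHom_map]
    rfl
  have eg : (gRes h.left (gY R.hom Y) (down Y R f)).1 ≫ Y.map k = Y.map k ≫ (down Y R f).1 :=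
    (pbv_fac (gY R.hom Y) (toId ((Over.map h.left).obj (o1 R'.left))) (down Y R f).1 (down Y R f).2 :)
  rw [er, ← ek, Y.toFunctor.map_comp, Y.toFunctor.map_comp, Category.assoc, Category.assoc,
    ← Category.assoc (Y.map (eqToHom eo.symm)), ← Y.toFunctor.map_comp, eqToHom_trans, eqToHom_refl,
    Y.toFunctor.map_id, Category.id_comp, reassoc_of% eg, down_fac]
  rw [← Category.assoc (Y.map k), ← Y.toFunctor.map_comp, ← Category.assoc (Y.map (eqToHom eo)),
    ← Y.toFunctor.map_comp, ek, Y.toFunctor.map_comp,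
    reassoc_of% (down_fac Y R' f'), hf]
  simp only [Category.assoc]

end Family

end IsoNatBG
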