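import Groth.Agent.IsoNatAut.Transfer

/-!
# Constant cocycles and change of the base
-/

set_option autoImplicit false
set_option linter.all false
set_option backward.isDefEq.respectTransparency false
set_option backward.isDefEq.respectTransparency.types false

universe u

open CategoryTheory CategoryTheory.Limits AlgebraicGeometry AlgSp FibCat FibLib AlgStLib IsoNat IsoNatLib IsoNatUnr
open IsoNatClean IsoNatAut
open CategoryTheory.Functor (Fiber IsStronglyCartesian)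

noncomputable section

namespace IsoNatBG

variable {S : Scheme.{u}} {T T' : Over S} (g : T' ⟶ T) {n : ℕ}

/-- A Two over the smaller base is one over the larger. -/
def gTwo (P : Two T') : Two T where
  oX := (Over.map g).obj P.oX
  oV := (Over.map g).obj P.oV
  oD := (Over.map g).obj P.oD
  i₁ := (Over.map g).map P.i₁
  i₂ := (Over.map g).map P.i₂
  n := (Over.map g).map P.n
  comm := by rw [← Functor.map_comp, ← Functor.map_comp, P.comm]
  op₁ := P.op₁
  op₂ := P.op₂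
  opn := P.opn
  cover := P.cover
  lim := P.lim
  ne := P.ne

/-- A morphism over a change of base. -/
def bcHom {A B : Scheme.{u}} (v' : A ⟶ T'.left) (v : B ⟶ T.left) (b : A ⟶ B) (e : b ≫ v = v' ≫ g.left) :
    (Over.map g).obj (oU v') ⟶ oU v :=
  Over.homMk (Over.homMk b (by
    change b ≫ v ≫ T.hom = v' ≫ T'.hom
    rw [← Category.assoc, e, Category.assoc, Over.w g])) (Over.OverMorphism.ext e)

/-- The base change of lines. -/
abbrev gX (n : ℕ) : XB T'.left n ⟶ XB T.left n := prod.map g.left (𝟙 _)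

lemma range_gDX (i : Fin (n + 1)) : Set.range ((DX T'.left i).ι ≫ gX g n) ⊆ Set.range (DX T.left i).ι := by
  rintro _ ⟨x, rfl⟩
  refine ⟨⟨_, ?_⟩, rfl⟩
  change (((DX T'.left i).ι ≫ gX g n) ≫ prod.snd) x ∈ Dz i
  rw [Category.assoc, prod.map_snd, Category.comp_id, Scheme.Hom.comp_apply]
  exact x.2

lemma range_gVX : Set.range ((VX T'.left n).ι ≫ gX g n) ⊆ Set.range (VX T.left n).ι := by
  rintro _ ⟨x, rfl⟩
  obtain ⟨i, hi⟩ := exists_DX T'.left x.2
  refine ⟨⟨_, DX_le T.left i ?_⟩, rfl⟩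
  change (((VX T'.left n).ι ≫ gX g n) ≫ prod.snd) x ∈ Dz i
  rw [Category.assoc, prod.map_snd, Category.comp_id, Scheme.Hom.comp_apply]
  exact hi

/-- The base change of lines, over the base. -/
def sXg (n : ℕ) : (gTwo g (st T' n)).oX ⟶ (st T n).oX :=
  bcHom g prod.fst prod.fst (gX g n) (prod.map_fst _ _)

/-- The base change of punctured lines. -/
def sVg (n : ℕ) : (gTwo g (st T' n)).oV ⟶ (st T n).oV :=
  bcHom g _ _ (IsOpenImmersion.lift (VX T.left n).ι ((VX T'.left n).ι ≫ gX g n) (range_gVX g)) (by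
    rw [IsOpenImmersion.lift_fac_assoc, Category.assoc, Category.assoc, prod.map_fst])

lemma sVg_fac : (sVg g n).left.left ≫ (VX T.left n).ι = (VX T'.left n).ι ≫ gX g n := IsOpenImmersion.lift_fac _ _ _

/-- The base change of doubled lines. -/
def sDg (n : ℕ) : (gTwo g (st T' n)).oD ⟶ (st T n).oD :=
  bcHom g _ _ (pushout.desc (gX g n ≫ pushout.inl _ _) (gX g n ≫ pushout.inr _ _) (by
      rw [← Category.assoc, ← sVg_fac, Category.assoc, pushout.condition, ← Category.assoc, sVg_fac,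
        Category.assoc]))
    (by
      apply pushout.hom_ext
      · rw [pushout.inl_desc_assoc, Category.assoc, pushout.inl_desc, pushout.inl_desc_assoc, prod.map_fst]
      · rw [pushout.inr_desc_assoc, Category.assoc, pushout.inr_desc, pushout.inr_desc_assoc, prod.map_fst])

lemma sDg_i₁ : (gTwo g (st T' n)).i₁ ≫ sDg g n = sXg g n ≫ (st T n).i₁ :=
  Over.OverMorphism.ext (Over.OverMorphism.ext (pushout.inl_desc _ _ _))

lemma sDg_i₂ : (gTwo g (st T' n)).i₂ ≫ sDg g n = sXg g n ≫ (st T n).i₂ :=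
  Over.OverMorphism.ext (Over.OverMorphism.ext (pushout.inr_desc _ _ _))

lemma sVg_n : (gTwo g (st T' n)).n ≫ sXg g n = sVg g n ≫ (st T n).n :=
  Over.OverMorphism.ext (Over.OverMorphism.ext (sVg_fac g).symm)

/-- The base change of a punctured line. -/
def pg (i : Fin (n + 1)) : (Over.map g).obj (oP T' i) ⟶ oP T i :=
  bcHom g _ _ (IsOpenImmersion.lift (DX T.left i).ι ((DX T'.left i).ι ≫ gX g n) (range_gDX g i)) (by
    rw [IsOpenImmersion.lift_fac_assoc, Category.assoc, Category.assoc, prod.map_fst])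

lemma pg_dV (i : Fin (n + 1)) : (Over.map g).map (dV T' i) ≫ sVg g n = pg g i ≫ dV T i := by
  refine Over.OverMorphism.ext (Over.OverMorphism.ext ((cancel_mono (VX T.left n).ι).1 ?_))
  exact sq_aux (Scheme.homOfLE_ι _ (DX_le T'.left i)) (sVg_fac g) (IsOpenImmersion.lift_fac _ _ _)
    (Scheme.homOfLE_ι _ (DX_le T.left i))

variable {𝒳 𝒴 : AlgSt.Cat S} [IsFibGrpd 𝒳.p] [IsFibGrpd 𝒴.p]

/-- The restriction of an object to the smaller base. -/
abbrev gY (Y : overCat T ⥤ᵇ 𝒳) : overCat T' ⥤ᵇ 𝒳 := BasedFunctor.comp (AlgSt.overMap g) Y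

lemma pbv_gY (Y : overCat T ⥤ᵇ 𝒳) {o o' : Over T'} (k : o ⟶ o') (a : (gY g Y).obj o' ⟶ (gY g Y).obj o')
    (ha : 𝒳.p.IsHomLift (𝟙 o'.left) a) : pbv (gY g Y) k a ha = pbv Y ((Over.map g).map k) a ha :=
  eq_pbv Y ((Over.map g).map k) a ha (pbv_lift (gY g Y) k a ha) (pbv_fac (gY g Y) k a ha)

/-- The restriction of an automorphism. -/
def gRes (Y : overCat T ⥤ᵇ 𝒳) (a : G Y) : G (gY g Y) :=
  ⟨cst Y ((Over.map g).obj (o1 T')) a, (cst_lift Y ((Over.map g).obj (o1 T')) a :)⟩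

lemma cst_gY (Y : overCat T ⥤ᵇ 𝒳) (o : Over T') (a : G Y) :
    cst (gY g Y) o (gRes g Y a) = cst Y ((Over.map g).obj o) a :=
  (pbv_gY g Y (toId o) _ _).trans (pbv_cst Y ((Over.map g).map (toId o)) a)

lemma gRes_one (Y : overCat T ⥤ᵇ 𝒳) : gRes g Y (G.one Y) = G.one (gY g Y) :=
  Subtype.ext (cst_one Y ((Over.map g).obj (o1 T')))

namespace Res

variable (P : Pt 𝒳 T) (P' : Pt 𝒳 T') (hP : P'.Y = gY g P.Y)

/-- The restriction to the smaller base, transported. -/
def res (a : G P.Y) : G P'.Y := hP ▸ gRes g P.Y a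

include hP in
/-- Pullbacks of classes with constant cocycles along a change of base. -/
theorem cls_pull {n : ℕ} (a : Fin (n + 1) → G P.Y) {z : 𝒳.p.Fiber (st T n).oD.left} (hz : cls z = P.c a)
    {z' : 𝒳.p.Fiber (st T' n).oD.left} (q : z'.1 ⟶ z.1) (hq : 𝒳.p.IsHomLift (sDg g n).left q) :
    cls z' = P'.c (fun i => res g P P' hP (a i)) := by
  obtain ⟨Y', hst', H', aH', Cl', hsep'⟩ := P'
  dsimp only at hP
  subst hP
  obtain ⟨k, hk⟩ := exists_vert_of_cls_eq hz
  haveI := hk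
  haveI := hq
  have hq' : 𝒳.p.IsHomLift (sDg g n).left (q ≫ k.hom) :=
    IsHomLift.comp_lift_id_right 𝒳.p (sDg g n).left q k.hom
  have hc := Two.coc_pullback (Y := P.Y) (P' := gTwo g (st T' n)) (P := st T n) (sXg g n) (sVg g n) (sDg g n)
    (sDg_i₁ g) (sDg_i₂ g) (sVg_n g) (cc_lift P.Y P.Cl a) (tw_coc P.Y P.Cl P.hst a) (q ≫ k.hom) hq'
  have hc' : (st T' n).Coc (gY g P.Y) z' (pbv P.Y (sVg g n) (cc P.Y P.Cl a) (cc_lift P.Y P.Cl a)) := hc
  have e : pbv P.Y (sVg g n) (cc P.Y P.Cl a) (cc_lift P.Y P.Cl a) =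
      cc (gY g P.Y) Cl' (fun i => gRes g P.Y (a i)) :=
    endo_ext (gY g P.Y) Cl' (pbv_lift P.Y (sVg g n) (cc P.Y P.Cl a) (cc_lift P.Y P.Cl a) :) (cc_lift _ _ _) fun i => by
      rw [cc_spec, cst_gY, pbv_gY, pbv_pbv P.Y ((Over.map g).map (dV T' i)) (sVg g n),
        pbv_congr P.Y (pg_dV g i), ← pbv_pbv P.Y (pg g i) (dV T i),
        pbv_congr' P.Y (pg g i) (cc_spec P.Y P.Cl a i) _ (cst_lift _ _ _), pbv_cst]
  have hl : 𝒳.p.IsHomLift (𝟙 (st T' n).oV.left) (pbv P.Y (sVg g n) (cc P.Y P.Cl a) (cc_lift P.Y P.Cl a)) :=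
    pbv_lift P.Y (sVg g n) (cc P.Y P.Cl a) (cc_lift P.Y P.Cl a)
  refine Two.cls_eq_of_coc (Y := gY g P.Y) hst' hl hc' (tw_coc (gY g P.Y) Cl' hst' _)
    (lift_id (gY g P.Y) _) (lift_id (gY g P.Y) _) ?_
  rw [pbv_one, Category.id_comp, Category.comp_id]
  exact e.symm

variable {φ : FIso 𝒳 𝒴} (Q : Pt 𝒴 T) (Q' : Pt 𝒴 T') (hQ : Q'.Y = gY g Q.Y)

include hP hQ in
/-- The relation on constant cocycles restricts. -/
theorem rel_res {n : ℕ} {a : Fin (n + 1) → G P.Y} {b : Fin (n + 1) → G Q.Y} (h : Pt.Rel φ P Q a b) :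
    Pt.Rel φ P' Q' (fun i => res g P P' hP (a i)) (fun i => res g Q Q' hQ (b i)) := by
  obtain ⟨z, q, hq⟩ := exists_pullback (T' := (st T' n).oD.left) (sDg g n).left (IsoNatAut.tw P.Y P.Cl P.hst a)
  have e := cls_pull g P P' hP a rfl q hq
  obtain ⟨z', hz'⟩ := Quotient.exists_rep (φ.toEquiv _ (cls z))
  obtain ⟨r, hr⟩ := exists_hom_transport φ (sDg g n).left q hq hz'.symm h
  have e' := cls_pull g Q Q' hQ b rfl r hr
  change φ.toEquiv _ (P'.c _) = _
  rw [← e, ← e']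
  exact hz'.symm

lemma res_one : res g P P' hP (1 : G P.Y) = 1 := by
  obtain ⟨Y', hst', H', aH', Cl', hsep'⟩ := P'
  dsimp only at hP
  subst hP
  exact gRes_one g P.Y

include hP hQ in
/-- The transport of automorphisms commutes with restriction. -/
theorem transport_res (hPQ' : φ.toEquiv T' (objCls P'.Y) = objCls Q'.Y) (hc : P'.IsComm)
    {a : G P.Y} {b : G Q.Y} (h : Pt.Rel φ P Q ![a, 1] ![b, 1]) {b' : G Q'.Y}
    (h' : Pt.Rel φ P' Q' ![res g P P' hP a, 1] ![b', 1]) : b' = res g Q Q' hQ b := by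
  have h1 := rel_res g P P' hP Q Q' hQ h
  have ea : (fun i => res g P P' hP (![a, 1] i)) = ![res g P P' hP a, 1] := by
    funext i
    fin_cases i
    · rfl
    · exact res_one g P P' hP
  have eb : (fun i => res g Q Q' hQ (![b, 1] i)) = ![res g Q Q' hQ b, 1] := by
    funext i
    fin_cases i
    · rfl
    · exact res_one g Q Q' hQ
  rw [ea, eb] at h1
  exact (Pt.existsUnique_pair hPQ' hc _).unique h' h1

end Res

end IsoNatBG
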