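import Groth.Agent.IsoNatBG.Aut
import Groth.Agent.BGStackLib.Equiv

/-!
# Presheaves of classes determine classifying stacks of commutative groups
-/

set_option autoImplicit false
set_option linter.all false
set_option backward.isDefEq.respectTransparency false
set_option backward.isDefEq.respectTransparency.types false

universe u

open CategoryTheory CategoryTheory.Limits MonoidalCategory CartesianMonoidalCategory AlgebraicGeometry
open Opposite MonObj GrpObj FibCat FibLib AlgStLib IsoNat IsoNatLib IsoNatUnr IsoNatClean IsoNatAut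
open Gerb (AutO ptsGrp AutRep)
open CategoryTheory.Functor (Fiber IsStronglyCartesian)

noncomputable section

namespace IsoNatBG

variable {S : Scheme.{u}}

section BG

variable (G : Over S) [GrpObj G] [IsCommMonObj G]

local notation "U₀" => Over.mk (𝟙 S)

/-- The trivial torsor over the base. -/
abbrev x0 : overCat U₀ ⥤ᵇ AlgSt.BG Scheme.fppfPrecoverage G :=
  BasedFunctor.comp (AlgSt.ofOverCat U₀) (AlgSt.quotMap Scheme.fppfPrecoverage G (AlgSt.trivAction G))

variable {G}

/-- A point of the group of points. -/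
def pnt {R : Over U₀} (a : (ptsGrp U₀ G).obj (op R)) : R.left ⟶ G :=
  (Over.homMk (𝟙 R.left.left) (by
    change 𝟙 _ ≫ R.hom.left = R.left.hom
    rw [Category.id_comp]
    exact (Category.comp_id _).symm.trans (Over.w R.hom)) : R.left ⟶ Over.mk R.hom.left) ≫ a

lemma pnt_left {R : Over U₀} (a : (ptsGrp U₀ G).obj (op R)) : (pnt a).left = a.left := Category.id_comp _

/-- A point of the group of points from a point. -/
def ofPnt {R : Over U₀} (a : R.left ⟶ G) : (ptsGrp U₀ G).obj (op R) :=
  (Over.homMk (𝟙 R.left.left) (by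
    change 𝟙 _ ≫ R.left.hom = R.hom.left
    rw [Category.id_comp]
    exact (Over.w R.hom).symm.trans (Category.comp_id _)) : Over.mk R.hom.left ⟶ R.left) ≫ a

lemma pnt_ofPnt {R : Over U₀} (a : R.left ⟶ G) : pnt (ofPnt (R := R) a) = a :=
  Over.OverMorphism.ext ((Category.id_comp _).trans (Category.id_comp _))

lemma pnt_mul {R : Over U₀} (a b : (ptsGrp U₀ G).obj (op R)) : pnt (a * b) = pnt a * pnt b := MonObj.comp_mul _ _ _

/-- A translation of the trivial torsor. -/
def transl (R : Over U₀) (g : R.left ⟶ G) : (x0 G).obj R ⟶ (x0 G).obj R :=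
  QuotStLib.homOfSection _ (lift g (𝟙 R.left)) R.hom (toUnit_unique _ _) (𝟙 R.left) (lift_snd _ _)

lemma transl_base (R : Over U₀) (g : R.left ⟶ G) : (transl R g).base = 𝟙 R.left := rfl

lemma transl_top (R : Over U₀) (g : R.left ⟶ G) :
    (transl R g).top = lift (fst G R.left * (snd G R.left ≫ g)) (snd G R.left) := by
  show (G ◁ lift g (𝟙 R.left)) ≫ (AlgSt.leftMul G R.left).act = _
  simp [AlgSt.leftMul, comp_lift, MonObj.comp_mul]

lemma transl_comp (R : Over U₀) (g h : R.left ⟶ G) : transl R g ≫ transl R h = transl R (h * g) := by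
  refine AlgSt.QuotObj.hom_ext ?_ ?_
  · show (transl R g).base ≫ (transl R h).base = _
    exact Category.id_comp _
  · show (transl R g).top ≫ (transl R h).top = _
    rw [transl_top, transl_top, transl_top, comp_lift, MonObj.comp_mul, lift_fst, lift_snd, lift_snd_assoc,
      MonObj.comp_mul, _root_.mul_comm (snd G R.left ≫ h), _root_.mul_assoc]

lemma transl_one (R : Over U₀) : transl R (1 : R.left ⟶ G) = 𝟙 _ := by
  refine AlgSt.QuotObj.hom_ext rfl ?_
  rw [transl_top, MonObj.comp_one, _root_.mul_one, lift_fst_snd]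
  rfl

lemma isHomLift_transl (R : Over U₀) (g : R.left ⟶ G) :
    (AlgSt.BG Scheme.fppfPrecoverage G).p.IsHomLift (𝟙 ((AlgSt.BG Scheme.fppfPrecoverage G).p.obj ((x0 G).obj R)))
      (transl R g) :=
  IsHomLift.map (AlgSt.BG Scheme.fppfPrecoverage G).p (transl R g)

/-- The automorphism of a point of the group. -/
def translAut (R : Over U₀) (g : R.left ⟶ G) : AutO ((x0 G).obj R) where
  hom := ⟨transl R g, isHomLift_transl R g⟩
  inv := ⟨transl R g⁻¹, isHomLift_transl R g⁻¹⟩
  hom_inv_id := Fiber.hom_ext (by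
    show transl R g ≫ transl R g⁻¹ = _
    rw [transl_comp, inv_mul_cancel, transl_one]
    rfl)
  inv_hom_id := Fiber.hom_ext (by
    show transl R g⁻¹ ≫ transl R g = _
    rw [transl_comp, mul_inv_cancel, transl_one]
    rfl)

/-- The points of the group are the automorphisms of the trivial torsor. -/
def bgIso (R : Over U₀) : (ptsGrp U₀ G).obj (op R) ≃* AutO ((x0 G).obj R) :=
  MulEquiv.ofBijective (MonoidHom.mk' (fun a => translAut R (pnt a)) (fun a b => Iso.ext (Fiber.hom_ext (by
      show transl R (pnt (a * b)) = transl R (pnt b) ≫ transl R (pnt a)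
      rw [transl_comp, pnt_mul]))))
    ⟨fun a b e => by
      have e' : (transl R (pnt a)).top = (transl R (pnt b)).top := congrArg (fun t => t.hom.1.top) e
      rw [transl_top, transl_top] at e'
      have h := lift (1 : R.left ⟶ G) (𝟙 R.left) ≫= (congrArg (· ≫ fst G R.left) e')
      simp only [lift_fst, MonObj.comp_mul, lift_snd_assoc, Category.id_comp, _root_.one_mul] at h
      exact Over.OverMorphism.ext (by rw [← pnt_left, h, pnt_left]),
    fun f => by
      have hb : f.hom.1.base = 𝟙 R.left := by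
        have h := @IsHomLift.fac' _ _ _ _ _ _ _ _ _ _ f.hom.1 f.hom.2
        exact h.trans (by simp; rfl)
      obtain ⟨g, -, hg⟩ := (QuotStLib.hom_iff (K := Scheme.fppfPrecoverage) (aX := AlgSt.trivAction G)
        (𝟙 R.left) R.hom R.hom).1 f.hom.1 hb
      refine ⟨ofPnt g, Iso.ext (Fiber.hom_ext (AlgSt.QuotObj.hom_ext ((transl_base _ _).trans hb.symm) ?_))⟩
      show (transl R (pnt (ofPnt g))).top = f.hom.1.top
      rw [transl_top, pnt_ofPnt, hg, Category.comp_id]⟩

/-- The automorphism sheaf of the trivial torsor is the group. -/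
def bgRep : AutRep (x0 G) (ptsGrp U₀ G) where
  iso := bgIso
  natural {R' R} h a := by
    refine AlgSt.QuotObj.hom_ext ?_ ?_
    · show (transl R' _).base ≫ h.left = h.left ≫ (transl R _).base
      exact (Category.id_comp _).trans (Category.comp_id _).symm
    · show (transl R' _).top ≫ (G ◁ h.left) = (G ◁ h.left) ≫ (transl R (pnt a)).top
      rw [transl_top, transl_top, lift_whiskerLeft, QuotStLib.whisker_eq_lift, comp_lift, MonObj.comp_mul,
        lift_fst, lift_snd, lift_snd_assoc, Category.assoc]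
      refine congrArg (fun t => lift (fst G R'.left * (snd G R'.left ≫ t)) (snd G R'.left ≫ h.left)) ?_
      exact Over.OverMorphism.ext (by
        rw [Over.comp_left, pnt_left, pnt_left]
        rfl)

lemma aut_comm {R : Over U₀} (s t : AutO ((x0 G).obj R)) : s * t = t * s := by
  obtain ⟨a, rfl⟩ := (bgIso R).surjective s
  obtain ⟨b, rfl⟩ := (bgIso R).surjective t
  rw [← map_mul, ← map_mul]
  congr 1
  exact Over.OverMorphism.ext (by rw [← pnt_left, ← pnt_left, pnt_mul, pnt_mul, _root_.mul_comm])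

end BG

section Main

variable {G : Over S} [GrpObj G] [IsCommMonObj G] [IsAffineHom G.hom]

local notation "U₀" => Over.mk (𝟙 S)
local notation "BGs" => AlgSt.BG Scheme.fppfPrecoverage G

/-- A stack with the presheaf of classes of a classifying stack of a commutative group is equivalent to it. -/
theorem exists_equiv {𝒴 : AlgSt.Cat S} (hst : Stk.IsStack (AlgSp.J S) (BGs))
    (hd : AlgSt.RepByAlgSpWith (AlgSp.IsSeparatedMor ⊓ AlgSp.IsQuasiCompactMor) (diag (toSelf (BGs))))
    (hstY : Stk.IsStack (AlgSp.J S) 𝒴)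
    (hdY : AlgSt.RepByAlgSpWith (AlgSp.IsSeparatedMor ⊓ AlgSp.IsQuasiCompactMor) (diag (toSelf 𝒴)))
    (φ : FIso (BGs) 𝒴) : ∃ e : BGs ⥤ᵇ 𝒴, IsEquivOver e := by
  haveI := hst.1
  haveI := hstY.1
  letI : ∀ {V : Over S} (Y : overCat V ⥤ᵇ BGs), Group (IsoNatAut.G Y) := fun Y => IsoNatAut.instGroupG Y
  obtain ⟨yc, hyc⟩ := Quotient.exists_rep (φ.toEquiv U₀ (objCls (x0 G)))
  let y0 : overCat U₀ ⥤ᵇ 𝒴 := ofPoint yc
  have hy0 : φ.toEquiv U₀ (objCls (x0 G)) = objCls y0 := by
    obtain ⟨e⟩ := nonempty_evalAtId_ofPoint_iso yc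
    exact hyc.symm.trans (Quotient.sound ⟨e.symm⟩)
  let P : ∀ R : Over U₀, Pt (BGs) R.left := fun R => ptOf hst hd (gY R.hom (x0 G))
  let Q : ∀ R : Over U₀, Pt 𝒴 R.left := fun R => ptOf hstY hdY (gY R.hom y0)
  have hPQ : ∀ R : Over U₀, φ.toEquiv R.left (objCls (P R).Y) = objCls (Q R).Y := fun R =>
    cls_value φ hy0 ((Over.map R.hom).obj (o1 R.left))
  have hc : ∀ R : Over U₀, (P R).IsComm := fun R a b => by
    apply (down (x0 G) R).symm.injective
    rw [map_mul, map_mul]
    exact aut_comm _ _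
  choose ψ hψ using fun R => exists_mulEquiv (hPQ R) (hc R)
  let r : AutRep y0 (ptsGrp U₀ G) :=
    { iso := fun R => ((bgIso R).trans ((down (x0 G) R).trans (ψ R))).trans (down y0 R).symm
      natural := fun {R' R} h a => by
        set A := bgIso R a with hA
        set A' := bgIso R' ((ptsGrp U₀ G).map h.op a) with hA'
        have hn : A'.hom.1 ≫ (x0 G).map h = (x0 G).map h ≫ A.hom.1 := (bgRep (G := G)).natural h a
        have hni : A'.inv.1 ≫ (x0 G).map h = (x0 G).map h ≫ A.inv.1 := by
          calc A'.inv.1 ≫ (x0 G).map h = A'.inv.1 ≫ (x0 G).map h ≫ (A.hom.1 ≫ A.inv.1) := by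
                rw [show A.hom.1 ≫ A.inv.1 = 𝟙 _ from congrArg Subtype.val A.hom_inv_id, Category.comp_id]
            _ = (A'.inv.1 ≫ A'.hom.1) ≫ (x0 G).map h ≫ A.inv.1 := by
                rw [← Category.assoc ((x0 G).map h), ← hn]; simp only [Category.assoc]
            _ = (x0 G).map h ≫ A.inv.1 := by
                rw [show A'.inv.1 ≫ A'.hom.1 = 𝟙 _ from congrArg Subtype.val A'.inv_hom_id, Category.id_comp]
        have eP := res_down (x0 G) hst hd h A A' hni
        let B := (down y0 R).symm (ψ R (down (x0 G) R A))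
        have hyh : 𝒴.p.IsHomLift h.left (y0.map h) := lift_map y0 h
        obtain ⟨B', hB'⟩ : ∃ B' : AutO (y0.obj R'), B'.inv.1 ≫ y0.map h = y0.map h ≫ B.inv.1 := by
          let b := pbv y0 h B.inv.1 (lift_val (y0.w_obj R) B.inv.2)
          have hb : 𝒴.p.IsHomLift (𝟙 (𝒴.p.obj (y0.obj R'))) b := by
            rw [show 𝒴.p.obj (y0.obj R') = R'.left from y0.w_obj R']; exact pbv_lift _ _ _ _
          haveI := hb
          haveI : IsIso b := isIso_of_isHomLift 𝒴.p (𝟙 (𝒴.p.obj (y0.obj R'))) b
          exact ⟨(fiberIso 𝒴.p (a := Gerb.fib (y0.obj R')) (b := Gerb.fib (y0.obj R')) (asIso b) hb).symm,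
            (pbv_fac y0 h B.inv.1 (lift_val (y0.w_obj R) B.inv.2) :)⟩
        have eQ := res_down y0 hstY hdY h B B' hB'
        have e1 : ψ R' (down (x0 G) R' A') = down y0 R' B' := by
          rw [← eQ]
          refine Res.transport_res h.left (P R) (P R') (gY_gY (x0 G) R h) (Q R) (Q R') (gY_gY y0 R h) (hPQ R')
            (hc R') (a := down (x0 G) R A) ?_ ?_
          · rw [MulEquiv.apply_symm_apply]; exact hψ R _
          · rw [eP]; exact hψ R' _
        show ((down y0 R').symm (ψ R' (down (x0 G) R' A'))).hom.1 ≫ y0.map h = y0.map h ≫ B.hom.1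
        rw [e1, MulEquiv.symm_apply_apply]
        calc B'.hom.1 ≫ y0.map h = B'.hom.1 ≫ y0.map h ≫ (B.inv.1 ≫ B.hom.1) := by
              rw [show B.inv.1 ≫ B.hom.1 = 𝟙 _ from congrArg Subtype.val B.inv_hom_id, Category.comp_id]
          _ = (B'.hom.1 ≫ B'.inv.1) ≫ y0.map h ≫ B.hom.1 := by
              rw [← Category.assoc (y0.map h), ← hB']; simp only [Category.assoc]
          _ = y0.map h ≫ B.hom.1 := by
              rw [show B'.hom.1 ≫ B'.inv.1 = 𝟙 _ from congrArg Subtype.val B'.hom_inv_id, Category.id_comp] }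
  refine ⟨BGStackLib.twFun r hstY, BGStackLib.isEquivOver_twFun r hstY fun V y hy => ?_⟩
  obtain ⟨A, hA⟩ := Quotient.exists_rep ((φ.toEquiv V).symm (cls (Fiber.mk (p := 𝒴.p) (a := y) hy)))
  have hA' : φ.toEquiv V (cls A) = cls (Fiber.mk (p := 𝒴.p) (a := y) hy) := by
    rw [show cls A = _ from hA, Equiv.apply_symm_apply]
  obtain ⟨A₀, hA₀⟩ := A
  subst hA₀
  refine ⟨BGStackLib.secSieve A₀, BGStackLib.secSieve_mem A₀, fun W f hf => ?_⟩
  obtain ⟨p, hp⟩ := hf
  let R : Over U₀ := BGStackLib.o W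
  let k : (x0 G).obj R ⟶ A₀ := QuotStLib.homOfSection A₀ p R.hom (toUnit_unique _ _) f hp
  have hk : (BGs).p.IsHomLift f k := IsHomLift.map (BGs).p k
  have hv := cls_value φ hy0 R
  exact exists_hom_transport φ f (x' := Fiber.mk (p := (BGs).p) (a := (x0 G).obj R) rfl)
    (x := ⟨A₀, rfl⟩) k hk hv hA'

end Main

end IsoNatBG
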